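import Groth.Agent.S0238
import Groth.Prelude.Def_FSch4

/-!
# Etale covers of an adic system and of its smallest level
-/

universe u

open CategoryTheory CategoryTheory.Limits AlgebraicGeometry

noncomputable section

namespace Groth.Agent.FSEtCov

variable {X X' : Scheme.{u}} (i : X ⟶ X') [IsClosedImmersion i] [Surjective i]

theorem exists_unique_lift {U V : FEt.Cat X} {U' V' : FEt.Cat X'} (r : U.left ⟶ U'.left)
    (s : V.left ⟶ V'.left) (hr : IsPullback r U.hom U'.hom i) (hs : IsPullback s V.hom V'.hom i)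
    (φ : U ⟶ V) : ∃! φ' : U' ⟶ V', r ≫ φ'.left = φ.left ≫ s := by
  have := Groth.Agent.S0238.result i
  let eU : U ≅ (FEt.restrict i).obj U' :=
    MorphismProperty.Over.isoMk hr.isoPullback hr.isoPullback_hom_snd
  let eV : V ≅ (FEt.restrict i).obj V' :=
    MorphismProperty.Over.isoMk hs.isoPullback hs.isoPullback_hom_snd
  have key : ∀ φ' : U' ⟶ V',
      r ≫ φ'.left = φ.left ≫ s ↔ eU.hom ≫ (FEt.restrict i).map φ' = φ ≫ eV.hom := by
    intro φ'
    have h1 : hr.isoPullback.hom ≫ ((FEt.restrict i).map φ').left ≫ pullback.fst V'.hom i =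
        r ≫ φ'.left := by
      have : ((FEt.restrict i).map φ').left ≫ pullback.fst V'.hom i = pullback.fst U'.hom i ≫ φ'.left :=
        pullback.lift_fst _ _ _
      refine (congrArg (hr.isoPullback.hom ≫ ·) this).trans ((Category.assoc _ _ _).symm.trans ?_)
      exact congrArg (· ≫ φ'.left) hr.isoPullback_hom_fst
    have h2 : φ.left ≫ hs.isoPullback.hom ≫ pullback.fst V'.hom i = φ.left ≫ s := by
      rw [hs.isoPullback_hom_fst]
    constructor
    · intro h
      refine MorphismProperty.Over.Hom.ext (pullback.hom_ext ?_ ?_)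
      · exact (Category.assoc _ _ _).trans (h1.trans (h.trans (h2.symm.trans (Category.assoc _ _ _).symm)))
      · exact (MorphismProperty.Over.w (eU.hom ≫ (FEt.restrict i).map φ')).trans
          (MorphismProperty.Over.w (φ ≫ eV.hom)).symm
    · intro h
      have := congrArg (fun k : U ⟶ (FEt.restrict i).obj V' => k.left ≫ pullback.fst V'.hom i) h
      exact h1.symm.trans ((Category.assoc _ _ _).symm.trans (this.trans ((Category.assoc _ _ _).trans h2)))
  refine ⟨(FEt.restrict i).preimage (eU.inv ≫ φ ≫ eV.hom), (key _).2 ?_, fun φ' hφ' => ?_⟩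
  · rw [Functor.map_preimage, Iso.hom_inv_id_assoc]
  · refine (FEt.restrict i).map_injective ?_
    rw [Functor.map_preimage, ← (key φ').1 hφ', Iso.inv_hom_id_assoc]

variable {𝔛 : FSch.Sys.{u}}

/-- A cover and its lift to the next level. -/
structure Step (n : ℕ) (U : FEt.Cat (𝔛.X n)) where
  /-- the cover of the next level -/
  U' : FEt.Cat (𝔛.X (n + 1))
  /-- the transition -/
  r : U.left ⟶ U'.left
  sq : IsPullback r U.hom U'.hom (𝔛.ι n)

theorem nonempty_step (h : 𝔛.IsFormal) (n : ℕ) (U : FEt.Cat (𝔛.X n)) : Nonempty (Step n U) := by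
  have := (h n).1
  have : Surjective (𝔛.ι n) := ⟨(h n).2⟩
  have := Groth.Agent.S0238.result (𝔛.ι n)
  let U' := (FEt.restrict (𝔛.ι n)).objPreimage U
  let e : (FEt.restrict (𝔛.ι n)).obj U' ≅ U := (FEt.restrict (𝔛.ι n)).objObjPreimageIso U
  let el : pullback U'.hom (𝔛.ι n) ≅ U.left :=
    ⟨e.hom.left, e.inv.left, congrArg (fun k => k.left) e.hom_inv_id,
      congrArg (fun k => k.left) e.inv_hom_id⟩
  have hel : el.inv ≫ pullback.snd U'.hom (𝔛.ι n) = U.hom := MorphismProperty.Over.w e.inv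
  exact ⟨⟨U', el.inv ≫ pullback.fst _ _, IsPullback.of_iso (IsPullback.of_hasPullback U'.hom (𝔛.ι n))
    el (Iso.refl _) (Iso.refl _) (Iso.refl _) (by simp) (by simp [← hel]) (by simp) (by simp)⟩⟩

/-- The successive lifts of a cover of the smallest level. -/
def towerObj (h : 𝔛.IsFormal) (U : FEt.Cat (𝔛.X 0)) : ∀ n, FEt.Cat (𝔛.X n)
  | 0 => U
  | n + 1 => (nonempty_step h n (towerObj h U n)).some.U'

/-- The transition maps of the successive lifts. -/
def towerMap (h : 𝔛.IsFormal) (U : FEt.Cat (𝔛.X 0)) (n : ℕ) :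
    (towerObj h U n).left ⟶ (towerObj h U (n + 1)).left :=
  (nonempty_step h n (towerObj h U n)).some.r

theorem isPullback_towerMap (h : 𝔛.IsFormal) (U : FEt.Cat (𝔛.X 0)) (n : ℕ) :
    IsPullback (towerMap h U n) (towerObj h U n).hom (towerObj h U (n + 1)).hom (𝔛.ι n) :=
  (nonempty_step h n (towerObj h U n)).some.sq

/-- The etale cover of the system of a cover of the smallest level. -/
def coverOf (h : 𝔛.IsFormal) (U : FEt.Cat (𝔛.X 0)) : FSch.EtCov 𝔛 :=
  ⟨CategoryTheory.Over.mk (Y := (⟨fun n => (towerObj h U n).left, towerMap h U⟩ : FSch.Sys.{u}))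
      (⟨fun n => (towerObj h U n).hom, fun n => (isPullback_towerMap h U n).w.symm⟩ :
        FSch.Hom ⟨fun n => (towerObj h U n).left, towerMap h U⟩ 𝔛),
    fun n => isPullback_towerMap h U n, fun n => (towerObj h U n).prop⟩

theorem essSurj_level (h : 𝔛.IsFormal) : (FSch.EtCov.level 𝔛 0).EssSurj :=
  ⟨fun U => ⟨coverOf h U, ⟨MorphismProperty.Over.isoMk (Iso.refl _) (Category.id_comp _)⟩⟩⟩

section Lift

variable {R R' : FSch.EtCov 𝔛}

theorem exists_unique_step (h : 𝔛.IsFormal) (n : ℕ)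
    (φ : (FSch.EtCov.level 𝔛 n).obj R ⟶ (FSch.EtCov.level 𝔛 n).obj R') :
    ∃! φ' : (FSch.EtCov.level 𝔛 (n + 1)).obj R ⟶ (FSch.EtCov.level 𝔛 (n + 1)).obj R',
      R.obj.left.ι n ≫ φ'.left = φ.left ≫ R'.obj.left.ι n := by
  have := (h n).1
  have : Surjective (𝔛.ι n) := ⟨(h n).2⟩
  exact exists_unique_lift (𝔛.ι n) _ _ (R.property.1 n) (R'.property.1 n) φ

/-- The successive lifts of a morphism of the smallest level. -/
def liftHom (h : 𝔛.IsFormal)
    (φ : (FSch.EtCov.level 𝔛 0).obj R ⟶ (FSch.EtCov.level 𝔛 0).obj R') :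
    ∀ n, (FSch.EtCov.level 𝔛 n).obj R ⟶ (FSch.EtCov.level 𝔛 n).obj R'
  | 0 => φ
  | n + 1 => (exists_unique_step h n (liftHom h φ n)).exists.choose

theorem liftHom_comm (h : 𝔛.IsFormal)
    (φ : (FSch.EtCov.level 𝔛 0).obj R ⟶ (FSch.EtCov.level 𝔛 0).obj R') (n : ℕ) :
    R.obj.left.ι n ≫ (liftHom h φ (n + 1)).left = (liftHom h φ n).left ≫ R'.obj.left.ι n :=
  (exists_unique_step h n (liftHom h φ n)).exists.choose_spec

end Lift

theorem full_level (h : 𝔛.IsFormal) : (FSch.EtCov.level 𝔛 0).Full := ⟨fun {R R'} φ => by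
  let ψ : R.obj.left ⟶ R'.obj.left :=
    (⟨fun n => (liftHom h φ n).left, fun n => (liftHom_comm h φ n).symm⟩ :
      FSch.Hom R.obj.left R'.obj.left)
  have hψ : ψ ≫ R'.obj.hom = R.obj.hom :=
    FSch.Hom.ext (funext fun n => MorphismProperty.Over.w (liftHom h φ n))
  exact ⟨ObjectProperty.homMk (Over.homMk ψ hψ), MorphismProperty.Over.Hom.ext rfl⟩⟩

theorem faithful_level (h : 𝔛.IsFormal) : (FSch.EtCov.level 𝔛 0).Faithful := ⟨fun {R R'} a b hab => by
  have key : ∀ n, (FSch.EtCov.level 𝔛 n).map a = (FSch.EtCov.level 𝔛 n).map b := fun n => by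
    induction n with
    | zero => exact hab
    | succ n ih =>
      refine (exists_unique_step h n ((FSch.EtCov.level 𝔛 n).map a)).unique
        ((a.hom.left : FSch.Hom _ _).comm n).symm ?_
      rw [ih]
      exact ((b.hom.left : FSch.Hom _ _).comm n).symm
  refine ObjectProperty.hom_ext _ (Over.OverMorphism.ext (FSch.Hom.ext (funext fun n => ?_)))
  exact congrArg (fun k => k.left) (key n)⟩

theorem isEquivalence_level (h : 𝔛.IsFormal) : (FSch.EtCov.level 𝔛 0).IsEquivalence := by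
  have := essSurj_level h
  have := full_level h
  have := faithful_level h
  exact { }

end Groth.Agent.FSEtCov
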